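import Mathlib

/-! The natural module `N` of `ΓL₂(4) ≅ S₅` and the tensor module `N ⊗ 𝔽₂³`. -/

set_option autoImplicit false
set_option synthInstance.maxSize 4096
set_option synthInstance.maxHeartbeats 200000

namespace Cfsg.Lib.J4P

open Equiv Matrix

abbrev F := ZMod 2
abbrev S5 := Perm (Fin 5)
abbrev V3 := Fin 3 → F
abbrev M3 := Matrix (Fin 3) (Fin 3) F

/-- The natural module of `ΓL₂(4)`, coded by bits. -/
def N := Fin 16

instance instFinN : Fintype N := inferInstanceAs (Fintype (Fin 16))
instance instDecN : DecidableEq N := inferInstanceAs (DecidableEq (Fin 16))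
def N.mk (n : ℕ) : N := Fin.ofNat 16 n
instance instAddN : Add N := ⟨fun a b => N.mk (a.val ^^^ b.val)⟩
instance instZeroN : Zero N := ⟨N.mk 0⟩
instance instNegN : Neg N := ⟨id⟩

instance instGrpN : AddCommGroup N where
  add_assoc := by decide +kernel
  zero_add := by decide +kernel
  add_zero := by decide +kernel
  add_comm := by decide +kernel
  neg_add_cancel := by decide +kernel
  nsmul := nsmulRec
  zsmul := zsmulRec

instance instSMulN : SMul F N := ⟨fun a n => if a = 0 then 0 else n⟩

instance instModN : Module F N where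
  one_smul := by decide +kernel
  mul_smul := by decide +kernel
  smul_zero := by decide +kernel
  smul_add := by decide +kernel
  add_smul := by decide +kernel
  zero_smul := by decide +kernel

def e1 : N := .mk 1
def e2 : N := .mk 2
def e3 : N := .mk 4
def e4 : N := .mk 8

theorem card_N : Fintype.card N = 16 := rfl
theorem add2 {V : Type*} [AddCommGroup V] [Module F V] (v : V) : v + v = 0 := by rw [← two_smul F]; exact zero_smul _ v
theorem add0 {V : Type*} [AddCommGroup V] [Module F V] {v w : V} : v + w = 0 ↔ v = w := by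
  rw [add_eq_zero_iff_eq_neg, neg_eq_of_add_eq_zero_left (add2 w)]
theorem z2 : ∀ a : F, a = 0 ∨ a = 1 := by decide

def bt (i : ℕ) (n : N) : F := bif n.val.testBit i then 1 else 0
theorem bt_add : ∀ i < 4, ∀ n m : N, bt i (n + m) = bt i n + bt i m := by decide +kernel
theorem bt_sum : ∀ n : N, bt 0 n • e1 + bt 1 n • e2 + bt 2 n • e3 + bt 3 n • e4 = n := by decide +kernel

def tab : ℕ := 0xfa4caf12000000008c5a0000c81300000000325f2348000000000000000000000000000000000000d68c6d320000000000000000000000004cb600000000c431000012bd0000218400000000000000000000000000000000b6fa00006b2300005ad600000000a52100000000000000000000000013db31f5000000000000000000000000000000000000bdafdbc8000000005f6d0000f5c400000000486b84a500000000000000000000000000000000000000000000000000000000000000000000000000000000af48fa1300000000c85f00008c1200000000235a324c0000000000000000000000000000000000000000000000000000000000000000000000000000000000000000000000000000000000000000000097c8792300000000000000000000000000000000000000004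8e7000000000000842113e90000000031c4000000000000e7af00007e32000000000000000000005f97000000000000f53100000000000000000000129e000021a50000000000000000e9fa9e8c0000000000000000000000005a7900000000a58400004c7e0000c4f50000000000000000000000000000000000000000000000000000000000006d84d631000000000000000000000000c4bd000000004c32000021b60000128c000000000000000079c49721000000000000000000000000000000000000000084e9000000000000482331e70000000013c8000000000000000000000000000000000000000000000000000000000000000000000000000000000000000000000000000000000000e96d000000009e12bd79000000000000db130000000000000000000000000000000000000000327e236b0000000000000000e7d600007e4c0000b697000000006b480000000000000000000000008c9ec8db0000000000000000000000000000000000000000000000000000000000006bf50000b6210000a5db000000005a2300000000000000000000000031d613fa00000000000000007ea50000e73100000000000000000000f59e0000000000005f32000000000000000000002197000012af0000000000009e6b00000000e913db7e000000000000bd12000000000000000000000000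00000000000000002379326d0000000000000000000000000000000000000000000000000000000000000000000000000000000000000000000000000000000000000000000097b6795a00000000d6e700006d5f00000000fae9afbd00000000000000000000000000000000000000000000000000000000000000000000000000000000dba5bdc400000000f56b00005fc800000000846d48af0000000000000000000000000000000000009ef5e984000000000000000000000000a57e000000005a8c0000c47900004cfa000000000000000000000000000000007edb0000e74800006b9e00000000b64c000000000000000000000000c8978cd600000000000000000000000000000000000079bd975f000000006de90000d65a00000000afe7fab600000000000000000000000000000000000000000000000000000000000000000000000000000000000000000000000000000000000000000000000000000000000000000000000000000000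

def row (s : S5) : ℕ := tab >>> (16 * ((s 0).val + 5 * (s 1).val + 25 * (s 2).val + 125 * (s 3).val))

/-- The action of `S₅`. -/
def ν (s : S5) (n : N) : N := bt 0 n • .mk (row s) + bt 1 n • .mk (row s / 16) + bt 2 n • .mk (row s / 256) +
  bt 3 n • .mk (row s / 4096)

/-- The invariant symplectic form. -/
def f (n m : N) : F := bif (0x5a5aa55a55aaaaaa96966996996666663c3cc33c33ccccccf0f00ff0ff000000 : ℕ).testBit
  (16 * n.val + m.val) then 1 else 0

@[simp] theorem ν_add (s : S5) (n m : N) : ν s (n + m) = ν s n + ν s m := by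
  simp only [ν, bt_add _ (by decide : 0 < 4), bt_add _ (by decide : 1 < 4), bt_add _ (by decide : 2 < 4),
    bt_add _ (by decide : 3 < 4), add_smul]; abel
@[simp] theorem ν_zero (s : S5) : ν s 0 = 0 := by simpa using ν_add s 0 0
@[simp] theorem ν_smul (s : S5) (a : F) (n : N) : ν s (a • n) = a • ν s n := by rcases z2 a with rfl | rfl <;> simp
@[simp] theorem ν_one : ∀ n : N, ν 1 n = n := by decide +kernel

theorem s5_ind {P : S5 → Prop} (h1 : P 1) (h : ∀ i : Fin 4, ∀ s, P s → P (swap i.castSucc i.succ * s)) (s : S5) : P s := by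
  have : s ∈ Submonoid.closure (Set.range fun i : Fin 4 => swap i.castSucc i.succ) := by
    rw [Perm.mclosure_swap_castSucc_succ]; trivial
  induction this using Submonoid.closure_induction_left with
  | one => exact h1
  | mul_left x hx y _ ih => obtain ⟨i, rfl⟩ := hx; exact h i y ih

theorem ν_sw (i : Fin 4) (s : S5) (n : N) : ν (swap i.castSucc i.succ * s) n = ν (swap i.castSucc i.succ) (ν s n) := by
  have : ∀ (i : Fin 4) (s : S5), ∀ n ∈ [e1, e2, e3, e4], ν (swap i.castSucc i.succ * s) n = ν (swap i.castSucc i.succ) (ν s n) := by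
    decide +kernel
  rw [← bt_sum n]
  simp [this]

theorem ν_mul (s t : S5) (n : N) : ν (s * t) n = ν s (ν t n) := by
  induction s using s5_ind with
  | h1 => simp
  | h i s ih => rw [mul_assoc, ν_sw, ν_sw, ih]

@[simp] theorem ν_inv (s : S5) (n : N) : ν s⁻¹ (ν s n) = n := by rw [← ν_mul, inv_mul_cancel, ν_one]
@[simp] theorem ν_inv' (s : S5) (n : N) : ν s (ν s⁻¹ n) = n := by rw [← ν_mul, mul_inv_cancel, ν_one]
@[simp] theorem ν_eq_zero {s : S5} {n : N} : ν s n = 0 ↔ n = 0 := ⟨fun h => by rw [← ν_inv s n, h, ν_zero], fun h => by simp [h]⟩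

@[simp] theorem f_addl : ∀ n m k : N, f (n + m) k = f n k + f m k := by decide +kernel
theorem f_comm : ∀ n m : N, f n m = f m n := by decide +kernel
@[simp] theorem f_addr (n m k : N) : f k (n + m) = f k n + f k m := by rw [f_comm, f_addl, f_comm n, f_comm m]
@[simp] theorem f_self : ∀ n : N, f n n = 0 := by decide +kernel
@[simp] theorem f_zl : ∀ n : N, f 0 n = 0 := by decide +kernel
@[simp] theorem f_zr : ∀ n : N, f n 0 = 0 := by decide +kernel
@[simp] theorem f_sl (a : F) (n m : N) : f (a • n) m = a * f n m := by rcases z2 a with rfl | rfl <;> simp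
@[simp] theorem f_sr (a : F) (n m : N) : f n (a • m) = a * f n m := by rcases z2 a with rfl | rfl <;> simp
theorem f_nd : ∀ n : N, n ≠ 0 → ∃ m, f n m = 1 := by decide +kernel

@[simp] theorem f_ν (s : S5) (n m : N) : f (ν s n) (ν s m) = f n m := by
  have : ∀ (i : Fin 4) (n m : N), f (ν (swap i.castSucc i.succ) n) (ν (swap i.castSucc i.succ) m) = f n m := by decide +kernel
  induction s using s5_ind with
  | h1 => simp
  | h i s ih => rw [ν_sw, ν_sw, this, ih]

theorem ν_faith : ∀ s : S5, ν s e1 = e1 → ν s e2 = e2 → ν s e3 = e3 → s = 1 := by decide +kernel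
theorem ν_trans : ∀ n : N, n ≠ 0 → ∃ s : S5, ν s e1 = n := by decide +kernel
theorem lines : ∀ n m : N, n ≠ 0 → m ≠ 0 → n ≠ m → ∃ s : S5, ν s n = m ∧ ν s m = n + m ∧ s * s * s = 1 := by decide +kernel
theorem perp : ∀ n : N, f e1 n = 0 → ∃ d : S5, ν d e1 = e1 ∧ ∃ m, ν d m + m = n := by decide +kernel
theorem fixN : ∀ s : S5, s ≠ 1 → (Finset.univ.filter fun n => ν s n = n).card ≤ 4 := by decide +kernel
theorem d8 : ∀ s : S5, ν s e1 = e1 → s * s * (s * s) = 1 ∧ s 0 = 0 := by decide +kernel
theorem card_d8 : (Finset.univ.filter fun s : S5 => ν s e1 = e1).card = 8 := by decide +kernel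

def d1 : S5 := swap 3 4
def d2 : S5 := swap 1 3 * swap 2 4
def d3 : S5 := swap 1 2 * swap 3 4

theorem fix_d : ∀ n : N, ν d1 n = n → ν d2 n = n → n = 0 ∨ n = e1 := by decide +kernel

theorem ea5 : ∀ a : S5, a * a = 1 → a ≠ 1 → ∀ b : S5, b * b = 1 → b ≠ 1 → a ≠ b → a * b = b * a → ∀ c : S5, a * c = c * a →
    b * c = c * b → c * c = 1 → c = 1 ∨ c = a ∨ c = b ∨ c = a * b := by decide +kernel

/-- The isotropic line `N₁`. -/
abbrev N1 (n : N) : Prop := f e1 n = 0 ∧ f e2 n = 0
/-- The centraliser of `N₁`. -/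
abbrev E1 (s : S5) : Prop := ν s e1 = e1 ∧ ν s e2 = e2

theorem N1_f : ∀ n m : N, N1 n → N1 m → f n m = 0 := by decide +kernel
theorem N1_iff : ∀ n : N, N1 n ↔ n = 0 ∨ n = e1 ∨ n = e2 ∨ n = e1 + e2 := by decide +kernel
theorem E1_iff : ∀ s : S5, E1 s ↔ s = 1 ∨ s = d2 ∨ s = d3 ∨ s = d2 * d3 := by decide +kernel
theorem E1_fix : ∀ s : S5, E1 s → ∀ n, N1 (ν s n + n) ∧ (s ≠ 1 → (ν s n = n → N1 n) ∧ (N1 n → ∃ m, ν s m + m = n)) := by
  decide +kernel
theorem st0 : ∀ s : S5, (s 0 = 0 → N1 (ν s e1) ∧ N1 (ν s e2)) ∧ (N1 (ν s e1) → s 0 = 0) ∧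
    ((s * d2 * s⁻¹) 0 = 0 → s 0 = 0) := by decide +kernel
theorem tr0 : (∀ n, N1 n → n ≠ 0 → ∃ k : S5, k 0 = 0 ∧ ν k e1 = n) ∧ ∀ s, E1 s → s ≠ 1 → ∃ k : S5, k 0 = 0 ∧ k * s * k⁻¹ = d2 := by
  decide +kernel
theorem e16 : ∀ a : S5, a * a = 1 → a ≠ 1 → ∀ b : S5, b * b = 1 → b ≠ 1 → a ≠ b → a * b = b * a →
    (Finset.univ.filter fun n => ν a n = n ∧ ν b n = n).card ≤ 2 ∨ ∃ k, E1 (k * a * k⁻¹) ∧ E1 (k * b * k⁻¹) := by decide +kernel
theorem cm5 (s : S5) (h : s ≠ 1) : ∃ k j : S5, j * (s * k * s⁻¹ * k⁻¹) * j⁻¹ = d2 := by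
  have h1 : ∀ s : S5, s ≠ 1 → ∃ k : S5, (s * k * s⁻¹ * k⁻¹) * (s * k * s⁻¹ * k⁻¹) = 1 ∧
      (Finset.univ.filter fun i => (s * k * s⁻¹ * k⁻¹) i = i).card = 1 := by decide +kernel
  have h2 : ∀ c : S5, c * c = 1 → (Finset.univ.filter fun i => c i = i).card = 1 → ∃ j : S5, j * c * j⁻¹ = d2 := by
    decide +kernel
  obtain ⟨k, a, b⟩ := h1 s h
  exact ⟨k, h2 _ a b⟩

def mk9 (n : ℕ) : M3 := !![n, (n / 2 : ℕ), (n / 4 : ℕ); (n / 8 : ℕ), (n / 16 : ℕ), (n / 32 : ℕ); (n / 64 : ℕ), (n / 128 : ℕ), (n / 256 : ℕ)]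

def invs : List M3 := [84, 124, 266, 458, 214, 302, 161, 273, 401, 337, 465, 305, 233, 281, 345, 313, 277, 309, 275, 403, 167,
  279].map mk9

theorem mem_invs : ∀ m : M3, m * m = 1 → m ∈ invs := by decide +kernel

theorem ea3 {a b c : M3} (ha : a * a = 1) (hb : b * b = 1) (hc : c * c = 1) (h1 : a * b = b * a) (h2 : a * c = c * a)
    (h3 : b * c = c * b) : a = 1 ∨ b = 1 ∨ a = b ∨ c = 1 ∨ c = a ∨ c = b ∨ c = a * b := by
  have : ∀ a ∈ invs, ∀ b ∈ invs, a * b = b * a → ∀ c ∈ invs, a * c = c * a → b * c = c * b →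
    a = 1 ∨ b = 1 ∨ a = b ∨ c = 1 ∨ c = a ∨ c = b ∨ c = a * b := by decide +kernel
  exact this a (mem_invs a ha) b (mem_invs b hb) h1 c (mem_invs c hc) h2 h3

theorem fix3 {m : M3} (h : m * m = 1) : ∃ v w : V3, v ≠ 0 ∧ w ≠ 0 ∧ v ≠ w ∧ v ᵥ* m = v ∧ w ᵥ* m = w := by
  have : ∀ m ∈ invs, ∃ v w : V3, v ≠ 0 ∧ w ≠ 0 ∧ v ≠ w ∧ v ᵥ* m = v ∧ w ᵥ* m = w := by decide +kernel
  exact this m (mem_invs m h)

theorem axis {a b : M3} (ha : a * a = 1) (hb : b * b = 1) (a1 : a ≠ 1) (ab : a ≠ b) (h : ∀ v, v ᵥ* a = v → v ᵥ* b = v)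
    (b1 : b ≠ 1) : ∃ w, a *ᵥ w = w ∧ b *ᵥ w ≠ w := by
  have : ∀ a ∈ invs, a ≠ 1 → ∀ b ∈ invs, b ≠ 1 → a ≠ b → (∀ v, v ᵥ* a = v → v ᵥ* b = v) → ∃ w, a *ᵥ w = w ∧ b *ᵥ w ≠ w := by
    decide +kernel
  exact this a (mem_invs a ha) a1 b (mem_invs b hb) b1 ab h

theorem tr3 : ∀ v : V3, v ≠ 0 → ∃ m ∈ invs, ![0, 0, 1] ᵥ* m = v := by decide +kernel

end Cfsg.Lib.J4P
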